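import Mathlib
import Cfsg.Agent.Lib.Helper97.PStable2
import Cfsg.Agent.Lib.Helper97.PAbelianP
import Cfsg.Agent.Lib.Helper97.Replacement4
import Cfsg.Agent.Lib.Helper97.Frattini
import Cfsg.Agent.Lib.Helper24.Omega
import Cfsg.Agent.Lib.Helper34.NPC

/-!
Lead library: the local step of Thompson's normal `p`-complement theorem (`J`/`Z` form).

If `C_Y(O_p(Y)) ≤ O_p(Y)`, `Y / O_p(Y)` has a normal `p`-complement, a Sylow `p`-subgroup `T` of `Y`
is a maximal subgroup, `p` is odd and `C_Y(Z(T))` has a normal `p`-complement, then `J(T) ⊴ Y`.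
-/

set_option autoImplicit false

namespace Cfsg.Agent.Lib.Lead.Thompson

open Cfsg
open scoped commutatorElement

universe u

section omega

variable {G : Type*} [Group G]

/-- `Ω₁(Z(U))` as a subgroup of `G`. -/
def omegaZ (p : ℕ) (U : Subgroup G) : Subgroup G where
  carrier := {z | z ∈ U ∧ (∀ u ∈ U, u * z = z * u) ∧ z ^ p = 1}
  one_mem' := ⟨U.one_mem, by simp, one_pow p⟩
  mul_mem' := by
    rintro a b ⟨ha, hac, hap⟩ ⟨hb, hbc, hbp⟩
    refine ⟨U.mul_mem ha hb, ?_, ?_⟩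
    · intro u hu
      rw [← mul_assoc, hac u hu, mul_assoc, hbc u hu, mul_assoc]
    · have hc : Commute a b := hbc a ha
      rw [hc.mul_pow, hap, hbp, one_mul]
  inv_mem' := by
    rintro a ⟨ha, hac, hap⟩
    refine ⟨U.inv_mem ha, ?_, by rw [inv_pow, hap, inv_one]⟩
    intro u hu
    have h := hac u hu
    calc u * a⁻¹ = a⁻¹ * (a * u) * a⁻¹ := by group
      _ = a⁻¹ * (u * a) * a⁻¹ := by rw [h]
      _ = a⁻¹ * u := by group

theorem mem_omegaZ {p : ℕ} {U : Subgroup G} {z : G} :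
    z ∈ omegaZ p U ↔ z ∈ U ∧ (∀ u ∈ U, u * z = z * u) ∧ z ^ p = 1 := Iff.rfl

theorem omegaZ_le (p : ℕ) (U : Subgroup G) : omegaZ p U ≤ U := fun _ hz => hz.1

theorem omegaZ_normal (p : ℕ) (U : Subgroup G) [hU : U.Normal] : (omegaZ p U).Normal := by
  refine ⟨fun z hz g => ?_⟩
  obtain ⟨hzU, hzc, hzp⟩ := hz
  refine ⟨hU.conj_mem z hzU g, ?_, ?_⟩
  · intro u hu
    have hu' : g⁻¹ * u * g ∈ U := by
      have := hU.conj_mem u hu g⁻¹
      simpa using this
    have h := hzc _ hu'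
    calc u * (g * z * g⁻¹) = g * ((g⁻¹ * u * g) * z) * g⁻¹ := by group
      _ = g * (z * (g⁻¹ * u * g)) * g⁻¹ := by rw [h]
      _ = g * z * g⁻¹ * u := by group
  · rw [conj_pow, hzp, mul_one, mul_inv_cancel]

theorem omegaZ_isElementaryAbelian (p : ℕ) (U : Subgroup G) : IsElementaryAbelian p (omegaZ p U) := by
  refine ⟨⟨⟨?_⟩⟩, fun a ha => ha.2.2⟩
  rintro ⟨a, ha⟩ ⟨b, hb⟩
  apply Subtype.ext
  exact hb.2.1 a ha.1

theorem le_centralizer_omegaZ (p : ℕ) (U : Subgroup G) :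
    U ≤ Subgroup.centralizer ((omegaZ p U : Subgroup G) : Set G) := by
  intro u hu
  rw [Subgroup.mem_centralizer_iff]
  intro z hz
  exact (hz.2.1 u hu).symm

end omega

section claimB

variable {Y : Type u} [Group Y] [Finite Y] {p : ℕ} [Fact p.Prime]

/-- A subgroup all of whose `p'`-elements are trivial is a `p`-group. -/
theorem isPGroup_of_forall_coprime_eq_one (N : Subgroup Y)
    (h : ∀ y ∈ N, (orderOf y).Coprime p → y = 1) : IsPGroup p N := by
  have hp : p.Prime := Fact.out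
  rintro ⟨x, hx⟩
  have hpos : orderOf x ≠ 0 := (orderOf_pos x).ne'
  obtain ⟨k, m, hm, hkm⟩ := Nat.exists_eq_pow_mul_and_not_dvd hpos p hp.ne_one
  refine ⟨k, Subtype.ext ?_⟩
  rw [Subgroup.coe_pow, Subgroup.coe_one]
  apply h _ (N.pow_mem hx _)
  have h1 : (x ^ p ^ k) ^ m = 1 := by
    rw [← pow_mul, ← hkm, pow_orderOf_eq_one]
  have h2 : orderOf (x ^ p ^ k) ∣ m := orderOf_dvd_of_pow_eq_one h1
  exact Nat.Coprime.coprime_dvd_left h2 ((Nat.Prime.coprime_iff_not_dvd hp).mpr hm).symm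

/-- Claim B: `C_Y(Ω₁(Z(O_p(Y)))) ≤ O_p(Y)` when `C_Y(O_p(Y)) ≤ O_p(Y)`, `p` is odd and `C_Y(Z(T))` has a
normal `p`-complement. -/
theorem centralizer_omegaZ_le (hp : p ≠ 2)
    (hC : Subgroup.centralizer ((pCore p Y : Subgroup Y) : Set Y) ≤ pCore p Y) (T : Sylow p Y)
    (hZ : HasNormalPComplement p ↥(Subgroup.centralizer
      (((T : Subgroup Y) ⊓ Subgroup.centralizer ((T : Subgroup Y) : Set Y) : Subgroup Y) : Set Y))) :
    Subgroup.centralizer ((omegaZ p (pCore p Y) : Subgroup Y) : Set Y) ≤ pCore p Y := by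
  have hpp : p.Prime := Fact.out
  set U := pCore p Y with hUdef
  have hUn : U.Normal := Cfsg.pCore_normal p Y
  have hUp : IsPGroup p U := Cfsg.Agent.Lib.Helper97.isPGroup_pCore p Y
  have hUT : U ≤ (T : Subgroup Y) := Cfsg.Agent.Lib.Helper97.pCore_le_sylow' T
  set V := omegaZ p U with hVdef
  have hVn : V.Normal := omegaZ_normal p U
  have hNn : (Subgroup.centralizer (V : Set Y)).Normal := inferInstance
  apply Cfsg.Agent.Lib.Helper97.le_pCore_of_normal hNn
  apply isPGroup_of_forall_coprime_eq_one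
  intro y hy hcop
  -- `Z = Z(U)`
  set Z := U ⊓ Subgroup.centralizer (U : Set Y) with hZdef
  have hZn : Z.Normal := inferInstance
  have hZp : IsPGroup p Z := hUp.to_le inf_le_left
  have hyZ : y ∈ Subgroup.normalizer (Z : Set Y) := by
    rw [Subgroup.normalizer_eq_top]; trivial
  have hfix : ∀ x ∈ Z, x ^ p = 1 → y * x = x * y := by
    intro x hx hxp
    have hxV : x ∈ V := ⟨hx.1, fun u hu => Subgroup.mem_centralizer_iff.mp hx.2 u hu, hxp⟩
    exact (Subgroup.mem_centralizer_iff.mp hy x hxV).symm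
  have hcent := Cfsg.Agent.Lib.Helper24.centralizes_of_centralizes_omega p hp y hcop Z hZp hyZ hfix
  -- `Z(T) ≤ Z(U)`
  set ZT := (T : Subgroup Y) ⊓ Subgroup.centralizer ((T : Subgroup Y) : Set Y) with hZTdef
  have hZTZ : ZT ≤ Z := by
    intro z hz
    have h1 : z ∈ Subgroup.centralizer (U : Set Y) := Subgroup.centralizer_le hUT hz.2
    exact ⟨hC h1, h1⟩
  set M := Subgroup.centralizer (ZT : Set Y) with hMdef
  have hyM : y ∈ M := by
    rw [Subgroup.mem_centralizer_iff]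
    intro z hz
    exact (hcent z (hZTZ hz)).symm
  have hUM : U ≤ M := by
    intro u hu
    rw [Subgroup.mem_centralizer_iff]
    intro z hz
    exact (Subgroup.mem_centralizer_iff.mp (hZTZ hz).2 u hu).symm
  obtain ⟨M₀, hM₀n, hM₀cop, k, hk⟩ := Cfsg.Agent.Lib.Helper34.hasNPC_iff_exists_normal.mp hZ
  have hy'M₀ : (⟨y, hyM⟩ : ↥M) ∈ M₀ := by
    have hle := Cfsg.Agent.Lib.Helper34.le_of_card_coprime_of_index_pow M₀ hk
      (Subgroup.zpowers (⟨y, hyM⟩ : ↥M)) (by
        rw [Nat.card_zpowers, Subgroup.orderOf_mk]; exact hcop)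
    exact hle (Subgroup.mem_zpowers _)
  -- `y` centralizes `U`
  have hyU : y ∈ Subgroup.centralizer (U : Set Y) := by
    rw [Subgroup.mem_centralizer_iff]
    intro u hu
    have h1 : (⟨u, hUM hu⟩ : ↥M) * ⟨y, hyM⟩ * (⟨u, hUM hu⟩ : ↥M)⁻¹ * (⟨y, hyM⟩ : ↥M)⁻¹ ∈ M₀ :=
      M₀.mul_mem (hM₀n.conj_mem _ hy'M₀ _) (M₀.inv_mem hy'M₀)
    have h2 : u * y * u⁻¹ * y⁻¹ ∈ M₀.map M.subtype := ⟨_, h1, rfl⟩
    have h3 : u * y * u⁻¹ * y⁻¹ ∈ U := by
      have : u * y * u⁻¹ * y⁻¹ = u * (y * u⁻¹ * y⁻¹) := by group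
      rw [this]
      exact U.mul_mem hu (hUn.conj_mem _ (U.inv_mem hu) y)
    have hdisj : M₀.map M.subtype ⊓ U = ⊥ := by
      apply (Subgroup.disjoint_of_coprime_natCard ?_).eq_bot
      rw [Subgroup.card_map_of_injective M.subtype_injective]
      obtain ⟨a, ha⟩ := hUp.exists_card_eq
      rw [ha]
      exact Nat.Coprime.pow_right a hM₀cop
    have h4 : u * y * u⁻¹ * y⁻¹ ∈ M₀.map M.subtype ⊓ U := ⟨h2, h3⟩
    rw [hdisj, Subgroup.mem_bot] at h4
    calc u * y = (u * y * u⁻¹ * y⁻¹) * (y * u) := by group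
      _ = y * u := by rw [h4, one_mul]
  have hyUmem : y ∈ U := hC hyU
  obtain ⟨j, hj⟩ := (IsPGroup.iff_orderOf.mp hUp) ⟨y, hyUmem⟩
  rw [Subgroup.orderOf_mk] at hj
  have h5 : orderOf y = 1 := by
    have h6 : (orderOf y).Coprime (orderOf y) := by
      conv_rhs => rw [hj]
      exact Nat.Coprime.pow_right j hcop
    exact (Nat.coprime_self _).mp h6
  exact orderOf_eq_one_iff.mp h5

end claimB

section main

variable {Y : Type u} [Group Y] [Finite Y] {p : ℕ} [Fact p.Prime]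

/-- The local step of Thompson's normal `p`-complement theorem. -/
theorem thompson_local (hp : p ≠ 2)
    (hC : Subgroup.centralizer ((pCore p Y : Subgroup Y) : Set Y) ≤ pCore p Y)
    (hQ : HasNormalPComplement p (Y ⧸ pCore p Y)) (T : Sylow p Y)
    (hT : IsCoatom (T : Subgroup Y))
    (hZ : HasNormalPComplement p ↥(Subgroup.centralizer
      (((T : Subgroup Y) ⊓ Subgroup.centralizer ((T : Subgroup Y) : Set Y) : Subgroup Y) : Set Y))) :
    (thompsonSubgroupOf p (T : Subgroup Y)).Normal := by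
  have hpp : p.Prime := Fact.out
  set U := pCore p Y with hUdef
  have hUn : U.Normal := Cfsg.pCore_normal p Y
  have hUp : IsPGroup p U := Cfsg.Agent.Lib.Helper97.isPGroup_pCore p Y
  have hUT : U ≤ (T : Subgroup Y) := Cfsg.Agent.Lib.Helper97.pCore_le_sylow' T
  set V := omegaZ p U with hVdef
  have hVn : V.Normal := omegaZ_normal p U
  have hVel : IsElementaryAbelian p V := omegaZ_isElementaryAbelian p U
  have hCV : Subgroup.centralizer (V : Set Y) ≤ U := centralizer_omegaZ_le hp hC T hZ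
  have hUCV : U ≤ Subgroup.centralizer (V : Set Y) := le_centralizer_omegaZ p U
  -- `p`-stability
  have hPA := Cfsg.Agent.Lib.Helper97.isPAbelianP_of_sylow_coatom hQ T hT
  have hst : IsPStableOn p V := Cfsg.Agent.Lib.Helper97.isPStableOn_of_isPAbelianP hp hPA V hVel
  -- quadratic elements lie in `U`
  have hquad : ∀ a : Y, ⁅⁅V, Subgroup.zpowers a⁆, Subgroup.zpowers a⁆ = ⊥ → a ∈ U := by
    intro a ha
    have h1 := hst a ha
    set D := (pCore p (Y ⧸ Subgroup.centralizer (V : Set Y))).comap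
      (QuotientGroup.mk' (Subgroup.centralizer (V : Set Y))) with hDdef
    have hDn : D.Normal := (Cfsg.pCore_normal p _).comap _
    have hDp : IsPGroup p D := by
      apply (Cfsg.Agent.Lib.Helper97.isPGroup_pCore p _).comap_of_ker_isPGroup
      rw [QuotientGroup.ker_mk']
      exact hUp.to_le hCV
    have hDU : D ≤ U := Cfsg.Agent.Lib.Helper97.le_pCore_of_normal hDn hDp
    exact hDU h1
  -- every maximal elementary abelian subgroup lies in `U`
  have hmax : ∀ A ∈ maxElementaryAbelianSubgroups p Y, A ≤ U := by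
    intro A hA
    obtain ⟨h1, h2, h3⟩ := Cfsg.Agent.Lib.Helper97.thompson_replacement_max V hVel A hA
    set A₀ := ⁅V, A⁆ ⊔ (A ⊓ Subgroup.centralizer ((⁅V, A⁆ : Subgroup Y) : Set Y)) with hA₀
    have hA₀U : A₀ ≤ U := by
      intro a ha
      apply hquad
      rw [eq_bot_iff, ← h2]
      have hz : Subgroup.zpowers a ≤ A₀ := by
        rw [Subgroup.zpowers_le]; exact ha
      exact Subgroup.commutator_mono (Subgroup.commutator_mono le_rfl hz) hz
    have h4 : ⁅V, A₀⁆ = ⊥ := by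
      rw [Subgroup.commutator_eq_bot_iff_le_centralizer, Subgroup.le_centralizer_iff]
      exact hA₀U.trans hUCV
    have h5 : ⁅V, A⁆ = ⊥ := by
      by_contra hne
      exact h3 hne h4
    rw [Subgroup.commutator_eq_bot_iff_le_centralizer, Subgroup.le_centralizer_iff] at h5
    exact h5.trans hCV
  have hJU : thompsonSubgroupOf p (T : Subgroup Y) ≤ U :=
    Cfsg.Agent.Lib.Helper97.thompsonSubgroupOf_le_of_forall_max T hmax
  have hJeq := Cfsg.Agent.Lib.Helper97.thompsonSubgroupOf_eq_of_le_of_le T hUT hJU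
  rw [← hJeq]
  have h6 := Cfsg.Agent.Lib.Helper97.normalizer_le_normalizer_thompsonSubgroupOf p U
  rw [Subgroup.normalizer_eq_top_iff.mpr hUn, top_le_iff] at h6
  exact Subgroup.normalizer_eq_top_iff.mp h6

end main

end Cfsg.Agent.Lib.Lead.Thompson
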