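import Mathlib
import Cfsg.Agent.Lib.Helper34.ThompsonMain
import Cfsg.Agent.Lib.Helper97.CoprimeQuot

/-!
Lead library: Thompson's normal `p`-complement criterion with two functors `W₁`, `W₂`
(`N(W₁(S))` and `C(W₂(S))` have normal `p`-complements), following the one-functor induction of
`Cfsg.Agent.Lib.Helper34.thompson_main`.
-/

set_option autoImplicit false

namespace Cfsg.Agent.Lib.Lead.Thompson

open Cfsg Cfsg.Agent.Lib.Helper34

universe u

section defs

variable (p : ℕ) (W₁ W₂ : ∀ (Q : Type u) [Group Q], Subgroup Q)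

/-- `N(W₁(S))` and `C(W₂(S))` have normal `p`-complements for every Sylow `p`-subgroup `S`. -/
def AllNC (Γ : Type u) [Group Γ] : Prop :=
  ∀ S : Sylow p Γ,
    HasNormalPComplement p
      ↥(Subgroup.normalizer ((Cfsg.inducedFunctor W₁ (S : Subgroup Γ) : Subgroup Γ) : Set Γ)) ∧
    HasNormalPComplement p
      ↥(Subgroup.centralizer ((Cfsg.inducedFunctor W₂ (S : Subgroup Γ) : Subgroup Γ) : Set Γ))

/-- The local hypothesis. -/
def LocalHyp : Prop :=
  ∀ (Y : Type u) [Group Y] [Finite Y],
    Subgroup.centralizer ((pCore p Y : Subgroup Y) : Set Y) ≤ pCore p Y →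
    HasNormalPComplement p (Y ⧸ pCore p Y) →
    ∀ T : Sylow p Y, IsCoatom (T : Subgroup Y) →
      HasNormalPComplement p
        ↥(Subgroup.centralizer ((Cfsg.inducedFunctor W₂ (T : Subgroup Y) : Subgroup Y) : Set Y)) →
      (Cfsg.inducedFunctor W₁ (T : Subgroup Y)).Normal

/-- Induction hypothesis. -/
def IHyp2 (n : ℕ) : Prop :=
  ∀ (Y : Type u) [Group Y] [Finite Y], Nat.card Y < n → AllNC p W₁ W₂ Y →
    HasNormalPComplement p Y

end defs

section aux

variable {p : ℕ} [Fact p.Prime]

theorem hasNPC_of_le {Γ : Type*} [Group Γ] [Finite Γ] {A B : Subgroup Γ} (h : A ≤ B)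
    (hB : HasNormalPComplement p ↥B) : HasNormalPComplement p ↥A :=
  hasNPC_of_injective (Subgroup.inclusion h) (Subgroup.inclusion_injective h) hB

theorem centralizer_map_mulEquiv {A B : Type*} [Group A] [Group B] (e : A ≃* B) (V : Subgroup A) :
    Subgroup.centralizer ((V.map e.toMonoidHom : Subgroup B) : Set B) =
      (Subgroup.centralizer (V : Set A)).map e.toMonoidHom := by
  ext x
  constructor
  · intro hx
    refine ⟨e.symm x, ?_, by simp⟩
    show e.symm x ∈ Subgroup.centralizer (V : Set A)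
    rw [Subgroup.mem_centralizer_iff]
    intro v hv
    apply e.injective
    have := Subgroup.mem_centralizer_iff.mp hx (e v) ⟨v, hv, rfl⟩
    simpa using this
  · rintro ⟨c, hc, rfl⟩
    rw [Subgroup.mem_centralizer_iff]
    rintro _ ⟨v, hv, rfl⟩
    show e v * e c = e c * e v
    rw [← map_mul, ← map_mul, Subgroup.mem_centralizer_iff.mp hc v hv]

variable {W : ∀ (Q : Type u) [Group Q], Subgroup Q}

/-- Centralizer version of Lemma A. -/
theorem hasNPC_centralizer_subgroup (hW : Cfsg.IsCharPFunctor.{u} p W) {Γ : Type u} [Group Γ]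
    [Finite Γ] (N : Subgroup Γ) (T : Subgroup ↥N) (hT : IsPGroup p T)
    (h : HasNormalPComplement p
      ↥(Subgroup.centralizer ((Cfsg.inducedFunctor W (T.map N.subtype) : Subgroup Γ) : Set Γ))) :
    HasNormalPComplement p
      ↥(Subgroup.centralizer ((Cfsg.inducedFunctor W T : Subgroup ↥N) : Set ↥N)) := by
  have hR : Cfsg.inducedFunctor W (T.map N.subtype) = (Cfsg.inducedFunctor W T).map N.subtype :=
    inducedFunctor_map_of_injOn W hW N.subtype T hT
      (fun x _ hx => N.subtype_injective (by simpa using hx))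
  rw [hR] at h
  set V := Cfsg.inducedFunctor W T with hVdef
  have hmem : ∀ x : ↥(Subgroup.centralizer (V : Set ↥N)),
      (N.subtype.comp (Subgroup.centralizer (V : Set ↥N)).subtype) x ∈
        Subgroup.centralizer ((V.map N.subtype : Subgroup Γ) : Set Γ) := by
    intro x
    rw [Subgroup.mem_centralizer_iff]
    rintro _ ⟨v, hv, rfl⟩
    have h1 := Subgroup.mem_centralizer_iff.mp x.2 v hv
    have h2 := congrArg Subtype.val h1
    simpa using h2
  refine hasNPC_of_injective
    ((N.subtype.comp (Subgroup.centralizer (V : Set ↥N)).subtype).codRestrict _ hmem) ?_ h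
  intro a b hab
  have h1 := congrArg Subtype.val hab
  exact Subtype.ext (Subtype.ext h1)

/-- Centralizer version of Lemma B. -/
theorem hasNPC_centralizer_all_sylow (hW : Cfsg.IsCharPFunctor.{u} p W) {Γ : Type u} [Group Γ]
    [Finite Γ] (S : Sylow p Γ)
    (h : HasNormalPComplement p
      ↥(Subgroup.centralizer ((Cfsg.inducedFunctor W (S : Subgroup Γ) : Subgroup Γ) : Set Γ)))
    (S' : Sylow p Γ) :
    HasNormalPComplement p
      ↥(Subgroup.centralizer ((Cfsg.inducedFunctor W (S' : Subgroup Γ) : Subgroup Γ) : Set Γ)) := by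
  obtain ⟨g, rfl⟩ := MulAction.exists_smul_eq Γ S S'
  rw [sylow_smul_eq_map_conj, inducedFunctor_map_mulEquiv W hW (MulAut.conj g) _ S.isPGroup',
    centralizer_map_mulEquiv]
  exact hasNPC_of_mulEquiv ((MulAut.conj g).subgroupMap _) h

end aux

section claims

variable {p : ℕ} [Fact p.Prime] {W₁ W₂ : ∀ (Q : Type u) [Group Q], Subgroup Q}

/-- Claim 1: a maximal bad subgroup is normal. -/
theorem normalizer_eq_top_of_maximal2 (hW₁ : Cfsg.IsCharPFunctor.{u} p W₁)
    (hW₂ : Cfsg.IsCharPFunctor.{u} p W₂) {Γ : Type u} [Group Γ] [Finite Γ]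
    (ih : IHyp2 p W₁ W₂ (Nat.card Γ)) (ha : AllNC p W₁ W₂ Γ)
    (H : Subgroup Γ) (hH : Bad p H) (hmax : ∀ Q : Subgroup Γ, Bad p Q → mN p Q ≤ mN p H) :
    Subgroup.normalizer (H : Set Γ) = ⊤ := by
  by_contra hne
  set N := Subgroup.normalizer (H : Set Γ) with hN
  have hlt : Nat.card ↥N < Nat.card Γ := card_subgroup_lt_of_ne_top N hne
  apply hH.2.2
  apply ih ↥N hlt
  intro T
  set T' := (T : Subgroup ↥N).map N.subtype with hT'
  have hT'p : IsPGroup p T' := T.isPGroup'.map _
  have hcardT' : Nat.card T' = p ^ eN p H := by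
    rw [hT', Subgroup.card_map_of_injective N.subtype_injective]
    exact T.card_eq_multiplicity
  by_cases hS : Nat.card T' = p ^ (Nat.card Γ).factorization p
  · have := ha (Sylow.ofCard T' hS)
    rw [Sylow.coe_ofCard] at this
    exact ⟨hasNPC_normalizer_subgroup hW₁ N T T.isPGroup' this.1,
      hasNPC_centralizer_subgroup hW₂ N T T.isPGroup' this.2⟩
  · have key : ∀ W : ∀ (Q : Type u) [Group Q], Subgroup Q, Cfsg.IsCharPFunctor.{u} p W →
        HasNormalPComplement p
          ↥(Subgroup.normalizer ((Cfsg.inducedFunctor W T' : Subgroup Γ) : Set Γ)) := by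
      intro W hW
      by_contra hbad
      -- `H ≤ T'`
      have hHT : H ≤ T' := by
        intro h hh
        have hhN : h ∈ N := Subgroup.le_normalizer hh
        have : (H.subgroupOf N).Normal := Subgroup.normal_in_normalizer
        have h1 : H.subgroupOf N ≤ T :=
          IsPGroup.le_sylow_of_normal (N := H.subgroupOf N) (hH.1.comap_subtype) T
        exact ⟨⟨h, hhN⟩, h1 (Subgroup.mem_subgroupOf.mpr hh), rfl⟩
      have hT'ne : T' ≠ ⊥ := ne_bot_of_le_ne_bot hH.2.1 hHT
      set V := Cfsg.inducedFunctor W T' with hV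
      have hVbad : Bad p V :=
        ⟨hT'p.to_le (inducedFunctor_le' W T'), inducedFunctor_ne_bot W hW T' hT'p hT'ne, hbad⟩
      have h1 := hmax V hVbad
      have h2 : eN p H < eN p V := by
        obtain ⟨P', hP'⟩ := hT'p.exists_le_sylow
        have hneP : T' ≠ (P' : Subgroup Γ) := by
          intro heq
          apply hS
          rw [heq]
          exact P'.card_eq_multiplicity
        have hltP : T' < (P' : Subgroup Γ) := lt_of_le_of_ne hP' hneP
        have hR := lt_inf_normalizer_of_lt P'.isPGroup' hltP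
        set R := (P' : Subgroup Γ) ⊓ Subgroup.normalizer (T' : Set Γ) with hRdef
        have hRp : IsPGroup p R := P'.isPGroup'.to_le inf_le_left
        obtain ⟨k, hk⟩ := hRp.exists_card_eq
        have hRle : R ≤ Subgroup.normalizer (V : Set Γ) :=
          inf_le_right.trans (normalizer_le_normalizer_inducedFunctor W hW T' hT'p)
        have h3 : p ^ k ∣ Nat.card ↥(Subgroup.normalizer (V : Set Γ)) := by
          rw [← hk]; exact Subgroup.card_dvd_of_le hRle
        have h4 : k ≤ eN p V :=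
          (Nat.Prime.pow_dvd_iff_le_factorization Fact.out Nat.card_pos.ne').mp h3
        have h5 : p ^ eN p H < p ^ k := by
          rw [← hk, ← hcardT']; exact card_lt_card_of_lt hR
        have h6 : eN p H < k := (Nat.pow_lt_pow_iff_right (Fact.out : p.Prime).one_lt).mp h5
        omega
      exact absurd h1 (not_le.mpr (mN_lt_of_eN_lt h2))
    exact ⟨hasNPC_normalizer_subgroup hW₁ N T T.isPGroup' (key W₁ hW₁),
      hasNPC_centralizer_subgroup hW₂ N T T.isPGroup'
        (hasNPC_of_le (Subgroup.centralizer_le_normalizer _) (key W₂ hW₂))⟩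

/-- Claim 3: `Γ / O_p(Γ)` has a normal `p`-complement. -/
theorem hasNPC_quotient_pCore2 (hW₁ : Cfsg.IsCharPFunctor.{u} p W₁)
    (hW₂ : Cfsg.IsCharPFunctor.{u} p W₂) {Γ : Type u} [Group Γ] [Finite Γ]
    (ih : IHyp2 p W₁ W₂ (Nat.card Γ))
    (H : Subgroup Γ) (hH : Bad p H) (hmax : ∀ Q : Subgroup Γ, Bad p Q → mN p Q ≤ mN p H)
    (hnorm : Subgroup.normalizer (H : Set Γ) = ⊤) :
    HasNormalPComplement p (Γ ⧸ pCore p Γ) := by
  set U := pCore p Γ with hUdef
  have hHn : H.Normal := Subgroup.normalizer_eq_top_iff.mp hnorm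
  have hHU : H ≤ U := Cfsg.Agent.Lib.Helper76.le_pCore p H hHn hH.1
  have hUne : U ≠ ⊥ := ne_bot_of_le_ne_bot hH.2.1 hHU
  have hUp : IsPGroup p U := Cfsg.Agent.Lib.Helper76.pCore_isPGroup p
  have hlt : Nat.card (Γ ⧸ U) < Nat.card Γ := card_quotient_lt_of_ne_bot U hUne
  have heH : eN p H = (Nat.card Γ).factorization p := by
    unfold eN
    rw [hnorm, Subgroup.card_top]
  apply ih (Γ ⧸ U) hlt
  intro Sb
  by_cases hSb : (Sb : Subgroup (Γ ⧸ U)) = ⊥
  · have hcop : (Nat.card (Γ ⧸ U)).Coprime p := by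
      have := Sb.not_dvd_index
      rw [hSb, Subgroup.index_bot] at this
      exact ((Nat.Prime.coprime_iff_not_dvd Fact.out).mpr this).symm
    exact ⟨hasNPC_of_injective (Subgroup.subtype _) (Subgroup.subtype_injective _)
        (hasNPC_of_card_coprime hcop),
      hasNPC_of_injective (Subgroup.subtype _) (Subgroup.subtype_injective _)
        (hasNPC_of_card_coprime hcop)⟩
  · have key : ∀ W : ∀ (Q : Type u) [Group Q], Subgroup Q, Cfsg.IsCharPFunctor.{u} p W →
        HasNormalPComplement p ↥(Subgroup.normalizer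
          ((Cfsg.inducedFunctor W (Sb : Subgroup (Γ ⧸ U)) : Subgroup (Γ ⧸ U)) : Set (Γ ⧸ U))) := by
      intro W hW
      set Vb := Cfsg.inducedFunctor W (Sb : Subgroup (Γ ⧸ U)) with hVb
      have hVbp : IsPGroup p Vb := Sb.isPGroup'.to_le (inducedFunctor_le' W _)
      have hVbne : Vb ≠ ⊥ := inducedFunctor_ne_bot W hW _ Sb.isPGroup' hSb
      set V' := Vb.comap (QuotientGroup.mk' U) with hV'
      have hV'p : IsPGroup p V' :=
        hVbp.comap_of_ker_isPGroup _ (by rw [QuotientGroup.ker_mk']; exact hUp)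
      have hUV' : U ≤ V' := by
        have := Subgroup.ker_le_comap (QuotientGroup.mk' U) Vb
        rwa [QuotientGroup.ker_mk'] at this
      have hUV'ne : U ≠ V' := by
        intro heq
        apply hVbne
        have h1 : Vb = V'.map (QuotientGroup.mk' U) :=
          (Subgroup.map_comap_eq_self_of_surjective (QuotientGroup.mk'_surjective U) Vb).symm
        rw [h1, ← heq, eq_bot_iff]
        rintro _ ⟨x, hx, rfl⟩
        rw [Subgroup.mem_bot, QuotientGroup.mk'_apply, QuotientGroup.eq_one_iff]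
        exact hx
      have hV'ne : V' ≠ ⊥ := ne_bot_of_le_ne_bot hUne hUV'
      have hnormV' : Subgroup.normalizer (V' : Set Γ) =
          (Subgroup.normalizer (Vb : Set (Γ ⧸ U))).comap (QuotientGroup.mk' U) :=
        (Subgroup.comap_normalizer_eq_of_surjective Vb (QuotientGroup.mk'_surjective U)).symm
      have hgood : HasNormalPComplement p ↥(Subgroup.normalizer (V' : Set Γ)) := by
        by_contra hbad
        have h1 := hmax V' ⟨hV'p, hV'ne, hbad⟩
        have h2 : eN p V' = eN p H := by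
          rw [heH]
          unfold eN
          apply factorization_card_eq_of_index_coprime
          rw [hnormV', Subgroup.index_comap_of_surjective _ (QuotientGroup.mk'_surjective U)]
          intro hdvd
          apply Sb.not_dvd_index
          refine dvd_trans hdvd (Subgroup.index_dvd_of_le ?_)
          exact Subgroup.le_normalizer.trans
            (normalizer_le_normalizer_inducedFunctor W hW _ Sb.isPGroup')
        have h3 : Nat.card H < Nat.card V' :=
          lt_of_le_of_lt (Subgroup.card_le_of_le hHU)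
            (card_lt_card_of_lt (lt_of_le_of_ne hUV' hUV'ne))
        exact absurd h1 (not_le.mpr (mN_lt_of_eN_eq_of_card_lt h2.symm h3))
      rw [hnormV'] at hgood
      exact hasNPC_of_surjective ((QuotientGroup.mk' U).subgroupComap _)
        ((QuotientGroup.mk' U).subgroupComap_surjective_of_surjective _
          (QuotientGroup.mk'_surjective U)) hgood
    exact ⟨key W₁ hW₁, hasNPC_of_le (Subgroup.centralizer_le_normalizer _) (key W₂ hW₂)⟩

/-- Claim 4: a counterexample of least order has trivial `p'`-core. -/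
theorem pPrimeCore_eq_bot_of_not_hasNPC2 (hW₁ : Cfsg.IsCharPFunctor.{u} p W₁)
    (hW₂ : Cfsg.IsCharPFunctor.{u} p W₂) {Γ : Type u} [Group Γ] [Finite Γ]
    (ih : IHyp2 p W₁ W₂ (Nat.card Γ)) (ha : AllNC p W₁ W₂ Γ)
    (hnot : ¬ HasNormalPComplement p Γ) : pPrimeCore p Γ = ⊥ := by
  by_contra hne
  set O := pPrimeCore p Γ with hOdef
  have hOcop : (Nat.card O).Coprime p := pPrimeCore_card_coprime p
  have hlt : Nat.card (Γ ⧸ O) < Nat.card Γ := card_quotient_lt_of_ne_bot O hne
  apply hnot
  apply hasNPC_of_quotient_coprime O hOcop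
  apply ih (Γ ⧸ O) hlt
  intro St
  obtain ⟨S₁, rfl⟩ := Sylow.mapSurjective_surjective (QuotientGroup.mk'_surjective O) p St
  rw [Sylow.coe_mapSurjective]
  have hinj : ∀ x ∈ (S₁ : Subgroup Γ), (QuotientGroup.mk' O) x = 1 → x = 1 := by
    intro x hx h1
    have hxO : x ∈ O := by rwa [QuotientGroup.mk'_apply, QuotientGroup.eq_one_iff] at h1
    have hdisj : (S₁ : Subgroup Γ) ⊓ O = ⊥ := by
      apply (Subgroup.disjoint_of_coprime_natCard _).eq_bot
      obtain ⟨k, hk⟩ := S₁.isPGroup'.exists_card_eq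
      rw [hk]
      exact (Nat.Coprime.pow_right k hOcop).symm
    have h2 : x ∈ (S₁ : Subgroup Γ) ⊓ O := ⟨hx, hxO⟩
    rw [hdisj] at h2
    exact h2
  rw [inducedFunctor_map_of_injOn W₁ hW₁ _ _ S₁.isPGroup' hinj,
    inducedFunctor_map_of_injOn W₂ hW₂ _ _ S₁.isPGroup' hinj]
  have hV₁p : IsPGroup p (Cfsg.inducedFunctor W₁ (S₁ : Subgroup Γ)) :=
    S₁.isPGroup'.to_le (inducedFunctor_le' W₁ _)
  have hV₂p : IsPGroup p (Cfsg.inducedFunctor W₂ (S₁ : Subgroup Γ)) :=
    S₁.isPGroup'.to_le (inducedFunctor_le' W₂ _)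
  rw [normalizer_map_mk_of_coprime O hOcop _ hV₁p,
    Cfsg.Agent.Lib.Helper97.centralizer_map_mk_of_coprime hV₂p hOcop]
  exact ⟨hasNPC_of_surjective ((QuotientGroup.mk' O).subgroupMap _)
      ((QuotientGroup.mk' O).subgroupMap_surjective _) (ha S₁).1,
    hasNPC_of_surjective ((QuotientGroup.mk' O).subgroupMap _)
      ((QuotientGroup.mk' O).subgroupMap_surjective _) (ha S₁).2⟩

/-- Claim 6: in a counterexample of least order with `C(O_p) ≤ O_p`, Sylow `p`-subgroups are
maximal. -/
theorem isCoatom_sylow_of_not_hasNPC2 (hW₁ : Cfsg.IsCharPFunctor.{u} p W₁)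
    (hW₂ : Cfsg.IsCharPFunctor.{u} p W₂) {Γ : Type u} [Group Γ] [Finite Γ]
    (ih : IHyp2 p W₁ W₂ (Nat.card Γ)) (ha : AllNC p W₁ W₂ Γ)
    (hnot : ¬ HasNormalPComplement p Γ)
    (hC : Subgroup.centralizer ((pCore p Γ : Subgroup Γ) : Set Γ) ≤ pCore p Γ) (S : Sylow p Γ) :
    IsCoatom (S : Subgroup Γ) := by
  refine ⟨?_, ?_⟩
  · intro htop
    apply hnot
    apply hasNPC_of_isPGroup
    have h1 := S.isPGroup'
    rw [htop] at h1
    exact h1.of_equiv Subgroup.topEquiv
  · intro L hSL
    by_contra hLtop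
    have hlt : Nat.card ↥L < Nat.card Γ := card_subgroup_lt_of_ne_top L hLtop
    have hallN : AllNC p W₁ W₂ ↥L := by
      intro T
      have hcard : Nat.card ((T : Subgroup ↥L).map L.subtype) =
          p ^ (Nat.card Γ).factorization p := by
        rw [Subgroup.card_map_of_injective L.subtype_injective, T.card_eq_multiplicity]
        congr 1
        exact factorization_card_eq_of_index_coprime L
          (fun hp => S.not_dvd_index (dvd_trans hp (Subgroup.index_dvd_of_le hSL.le)))
      have := ha (Sylow.ofCard _ hcard)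
      rw [Sylow.coe_ofCard] at this
      exact ⟨hasNPC_normalizer_subgroup hW₁ L T T.isPGroup' this.1,
        hasNPC_centralizer_subgroup hW₂ L T T.isPGroup' this.2⟩
    have hL := ih ↥L hlt hallN
    rw [hasNPC_iff_exists_normal] at hL
    obtain ⟨Y, hYn, hYcop, k, hk⟩ := hL
    set U := pCore p Γ with hUdef
    have hUn : U.Normal := Cfsg.pCore_normal p Γ
    have hUp : IsPGroup p U := Cfsg.Agent.Lib.Helper76.pCore_isPGroup p
    have hUS : U ≤ S := Cfsg.Agent.Lib.Helper76.pCore_le_sylow p S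
    have hUL : U ≤ L := hUS.trans hSL.le
    set Y' := Y.map L.subtype with hY'
    have hY'cop : (Nat.card Y').Coprime p := by
      rw [hY', Subgroup.card_map_of_injective L.subtype_injective]; exact hYcop
    have hdisj : Y' ⊓ U = ⊥ := by
      apply (Subgroup.disjoint_of_coprime_natCard _).eq_bot
      obtain ⟨a, ha'⟩ := hUp.exists_card_eq
      rw [ha']
      exact Nat.Coprime.pow_right a hY'cop
    have hY'C : Y' ≤ Subgroup.centralizer (U : Set Γ) := by
      rintro _ ⟨y, hy, rfl⟩
      rw [Subgroup.mem_centralizer_iff]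
      intro u hu
      have hu' : u ∈ U := hu
      have h1 : (y : Γ) * u * (y : Γ)⁻¹ * u⁻¹ ∈ U :=
        U.mul_mem (hUn.conj_mem u hu' y) (U.inv_mem hu')
      have h2 : (y : Γ) * u * (y : Γ)⁻¹ * u⁻¹ ∈ Y' := by
        refine ⟨y * (⟨u, hUL hu'⟩ * y⁻¹ * ⟨u, hUL hu'⟩⁻¹),
          Y.mul_mem hy (hYn.conj_mem _ (Y.inv_mem hy) _), ?_⟩
        simp [mul_assoc]
      have h3 : (y : Γ) * u * (y : Γ)⁻¹ * u⁻¹ ∈ Y' ⊓ U := ⟨h2, h1⟩
      rw [hdisj, Subgroup.mem_bot] at h3
      show u * L.subtype y = L.subtype y * u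
      calc u * (y : Γ) = ((y : Γ) * u * (y : Γ)⁻¹ * u⁻¹)⁻¹ * ((y : Γ) * u) := by group
        _ = (y : Γ) * u := by rw [h3]; simp
    have hY'bot : Y' = ⊥ := by
      rw [eq_bot_iff, ← hdisj]
      exact le_inf le_rfl (hY'C.trans hC)
    have hYbot : Y = ⊥ := (Subgroup.map_eq_bot_iff_of_injective _ L.subtype_injective).mp hY'bot
    rw [hYbot, Subgroup.index_bot] at hk
    have hLp : IsPGroup p ↥L := IsPGroup.of_card hk
    exact hSL.ne (S.is_maximal' hLp hSL.le).symm

/-- Thompson's normal `p`-complement criterion with two functors, by induction on the order. -/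
theorem thompson_main2 (hW₁ : Cfsg.IsCharPFunctor.{u} p W₁) (hW₂ : Cfsg.IsCharPFunctor.{u} p W₂)
    (hloc : LocalHyp p W₁ W₂) :
    ∀ (n : ℕ) (Γ : Type u) [Group Γ] [Finite Γ], Nat.card Γ = n → AllNC p W₁ W₂ Γ →
      HasNormalPComplement p Γ := by
  intro n
  induction n using Nat.strong_induction_on with
  | _ n IH =>
    intro Γ _ _ hn ha
    have ih : IHyp2 p W₁ W₂ (Nat.card Γ) := by
      intro Y _ _ hlt haY
      exact IH (Nat.card Y) (hn ▸ hlt) Y rfl haY
    by_contra hnot
    have hex : ∃ Q : Subgroup Γ, Bad p Q := by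
      by_contra hno
      apply hnot
      rw [Cfsg.Agent.S0072.result p]
      intro Q hQ hne
      by_contra hb
      exact hno ⟨Q, hQ, hne, hb⟩
    obtain ⟨Q₀, hQ₀⟩ := hex
    have hnonempty : Nonempty {Q : Subgroup Γ // Bad p Q} := ⟨⟨Q₀, hQ₀⟩⟩
    obtain ⟨⟨H, hH⟩, hmax'⟩ :=
      Finite.exists_max (fun Q : {Q : Subgroup Γ // Bad p Q} => mN p Q.1)
    have hmax : ∀ Q : Subgroup Γ, Bad p Q → mN p Q ≤ mN p H := fun Q hQ => hmax' ⟨Q, hQ⟩
    have hnorm := normalizer_eq_top_of_maximal2 hW₁ hW₂ ih ha H hH hmax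
    have hquot := hasNPC_quotient_pCore2 hW₁ hW₂ ih H hH hmax hnorm
    have hO := pPrimeCore_eq_bot_of_not_hasNPC2 hW₁ hW₂ ih ha hnot
    have hC := centralizer_pCore_le_of_hasNPC_quotient hquot hO
    obtain ⟨S⟩ : Nonempty (Sylow p Γ) := inferInstance
    have hco := isCoatom_sylow_of_not_hasNPC2 hW₁ hW₂ ih ha hnot hC S
    have hnormal := hloc Γ hC hquot S hco (ha S).2
    have h1 := (ha S).1
    rw [Subgroup.normalizer_eq_top_iff.mpr hnormal] at h1
    exact hnot (hasNPC_of_mulEquiv Subgroup.topEquiv h1)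

end claims

end Cfsg.Agent.Lib.Lead.Thompson
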